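import Cfsg.Agent.H395.PQ.WittField
import Cfsg.Agent.H476.FieldOrth
import Cfsg.Agent.TitsThree.KSideO

/-!
# S4981: field automorphisms of orthogonal groups with a Witt frame fixed by them (helper395)

* `coord σ` : the coordinatewise action of `σ`;
* `semi_O` : it is a symmetry of the frame; `ind_O` : it induces `Phi hG (frobG h)` on `POmega`;
* `frobHom'`, `Psi` : the homomorphism from `F ≃+* F` to the automorphisms of `POmega`;
* `tor_comm_of` : the torus is commutative if it is so on the anisotropic part.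
-/

set_option autoImplicit false
set_option linter.unusedSectionVars false

namespace Cfsg.Agent.H395.PQ.OrthField

open QuadraticMap Matrix
open Cfsg.Agent.H395.PQ.WittField
open Cfsg.Agent.LieClassical Cfsg.Agent.LieClassical.OrthCore Cfsg.Agent.LieClassical.OrthTrans
open Cfsg.Agent.LieClassical.OrthSimple Cfsg.Agent.LieClassical.OrthFinite
open Cfsg.Agent.TitsThree.Siegel Cfsg.Agent.TitsThree.SiegelGen Cfsg.Agent.TitsThree.WittFrame
open Cfsg.Agent.TitsThree.WBridge Cfsg.Agent.TitsThree.FrameCN Cfsg.Agent.TitsThree.KSideO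
open Cfsg.Agent.TitsThree.WittWeyl
open Cfsg.Agent.ClassicalGeometry.OrthSemi
open Cfsg.Agent.H198.OrthFrame Cfsg.Agent.H185.OrthCent
open Cfsg.Agent.Nodes.WittRGD Cfsg.Agent.Nodes.WittRoot Cfsg.Agent.Nodes.WittAll

variable {ι : Type} [Fintype ι] [DecidableEq ι] {F : Type*} [Field F]

/-- the coordinatewise action of a field automorphism -/
def coord (ι : Type) (σ : F ≃+* F) : (ι → F) ≃+ (ι → F) where
  toFun v i := σ (v i)
  invFun v i := σ.symm (v i)
  left_inv v := by funext i; exact σ.symm_apply_apply _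
  right_inv v := by funext i; exact σ.apply_symm_apply _
  map_add' v w := by funext i; exact map_add σ _ _

theorem coord_apply (σ : F ≃+* F) (v : ι → F) (i : ι) : coord ι σ v i = σ (v i) := rfl

theorem coord_smul (σ : F ≃+* F) (c : F) (v : ι → F) : coord ι σ (c • v) = σ c • coord ι σ v := by
  funext i
  exact map_mul σ _ _

variable {Q : QuadraticForm F (ι → F)} {m : ℕ} (W : WFrame (Cfsg.Agent.TitsThree.KSideO.PO Q) m)

theorem polar_coord {σ : F ≃+* F} (h : H185.OrthCent.Fix σ Q) (v w : ι → F) :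
    polar Q (coord ι σ v) (coord ι σ w) = σ (polar Q v w) := by
  have h1 : ∀ v : ι → F, Q (coord ι σ v) = σ (Q v) := h
  unfold QuadraticMap.polar
  rw [← map_add, h1, h1, h1, map_sub, map_sub]

/-- the coordinatewise action is a symmetry of the frame -/
theorem semi_O {σ : F ≃+* F} (h : H185.OrthCent.Fix σ Q) (he : ∀ i, coord ι σ (W.e i) = W.e i)
    (hf : ∀ i, coord ι σ (W.f i) = W.f i) (h0 : ∀ w ∈ W.V0, coord ι σ w ∈ W.V0) :
    Semi (toFrame W) σ (coord ι σ) where
  smul := coord_smul σ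
  form v w := polar_coord h v w
  comm _ := rfl
  eps := map_one σ
  b := by
    rintro ⟨i, x⟩
    cases x
    · exact hf i
    · exact he i
  ok := by
    rintro w c ⟨h1, h2⟩
    refine ⟨h0 w h1, ?_⟩
    have h3 : c = -Q w := h2
    have h4 : Q (coord ι σ w) = σ (Q w) := h w
    show σ c = -Q (coord ι σ w)
    rw [h4, h3, map_neg]

theorem toOmega_apply (hG : Good Q) (g : E Q) (v : ι → F) :
    (((toOmega hG g : Cfsg.isometryGroup F ⇑Q) : Matrix.GeneralLinearGroup ι F) : Matrix ι ι F) *ᵥ v = g.1 v := by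
  have h1 := omegaEquiv_apply Q (toOmega hG g) v
  rw [← h1]
  have h2 : ((MulEquiv.subgroupCongr hG.commutator_eq_E) (omegaEquiv Q (toOmega hG g))) = g :=
    ((omegaEquiv Q).trans (MulEquiv.subgroupCongr hG.commutator_eq_E)).apply_symm_apply g
  have h3 := congrArg Subtype.val h2
  exact LinearEquiv.congr_fun h3 v

/-- the coordinatewise action induces `Phi hG (frobG h)` -/
theorem ind_O (hG : Good Q) (hp : ∃ p : (toFrame W).Adm, p.c ≠ 0) {σ : F ≃+* F} (h : H185.OrthCent.Fix σ Q)
    (he : ∀ i, coord ι σ (W.e i) = W.e i) (hf : ∀ i, coord ι σ (W.f i) = W.f i)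
    (h0 : ∀ w ∈ W.V0, coord ι σ w ∈ W.V0) :
    Ind (model W hG hp) σ (coord ι σ) (Phi hG (frobG h)) := by
  have hS := semi_O W h he hf h0
  have key : ∀ (g : (ι → F) ≃ₗ[F] (ι → F)) (hg : g ∈ E Q), ∃ s' : Cfsg.Omega F ⇑Q,
      (∀ v : ι → F, (((s' : Cfsg.isometryGroup F ⇑Q) : GL ι F) : Matrix ι ι F) *ᵥ (frobG h).1 v =
        (frobG h).1 ((((toOmega hG ⟨g, hg⟩ : Cfsg.isometryGroup F ⇑Q) : GL ι F) : Matrix ι ι F) *ᵥ v)) ∧
      ((toOmega hG).symm s').1 = conjS hS.smul g := by
    intro g hg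
    obtain ⟨s', hs'⟩ := H198.OrthFrame.exists_conj hG (frobG h) (toOmega hG ⟨g, hg⟩)
    refine ⟨s', hs', ?_⟩
    symm
    apply conjS_eq
    intro v
    have h1 := toOmega_apply hG ((toOmega hG).symm s') (coord ι σ v)
    rw [(toOmega hG).apply_symm_apply] at h1
    have h2 := hs' v
    rw [toOmega_apply] at h2
    rw [← h1]
    have h3 : (frobG h).1 v = coord ι σ v := frobG_apply h v
    have h4 : (frobG h).1 (g v) = coord ι σ (g v) := frobG_apply h (g v)
    rw [h3] at h2
    exact h2.trans h4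
  refine ⟨hS, ?_, ?_⟩
  · intro g hg
    obtain ⟨s', -, h2⟩ := key g hg
    rw [← h2]
    exact ((toOmega hG).symm s').2
  · intro g hg
    obtain ⟨s', h1, h2⟩ := key g hg
    have h3 : Phi hG (frobG h) (QuotientGroup.mk (toOmega hG ⟨g, hg⟩)) = QuotientGroup.mk s' := Phi_mk hG _ h1
    refine h3.trans ?_
    show _ = QuotientGroup.mk (toOmega hG _)
    congr 1
    exact (toOmega hG).symm_apply_eq.1 (Subtype.ext h2)

/-- the homomorphism from the automorphisms of the field -/
def frobHom' (h : ∀ σ : F ≃+* F, H185.OrthCent.Fix σ Q) : (F ≃+* F) →* Gam Q where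
  toFun σ := frobG (h σ)
  map_one' := by
    apply Subtype.ext
    ext1 v
    exact frobG_apply _ v
  map_mul' σ τ := by
    apply Subtype.ext
    ext1 v
    change (frobG (h (σ * τ))).1 v = (frobG (h σ)).1 ((frobG (h τ)).1 v)
    rw [frobG_apply, frobG_apply, frobG_apply]
    rfl

/-- the field automorphisms of `POmega` -/
noncomputable def Psi (hG : Good Q) (h : ∀ σ : F ≃+* F, H185.OrthCent.Fix σ Q) :
    (F ≃+* F) →* MulAut (Cfsg.POmega F ⇑Q) := (Phi hG).comp (frobHom' h)

omit [Fintype ι] [DecidableEq ι] in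
/-- commuting monomial elements -/
theorem comm_of_mono {g k : (ι → F) ≃ₗ[F] (ι → F)} (hg : Mono (toFrame W) g id) (hk : Mono (toFrame W) k id)
    (h0 : ∀ w ∈ W.V0, g (k w) = k (g w)) : g * k = k * g := by
  ext1 v
  rw [TitsThree.WittWeyl.mul_apply', TitsThree.WittWeyl.mul_apply']
  have hb : ∀ x, g (k ((toFrame W).b x)) = k (g ((toFrame W).b x)) := by
    intro x
    obtain ⟨a, -, ha⟩ := hg x
    obtain ⟨c, -, hc⟩ := hk x
    rw [ha, hc, map_smul, map_smul]
    have ha' : g ((toFrame W).b x) = a • (toFrame W).b x := ha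
    have hc' : k ((toFrame W).b x) = c • (toFrame W).b x := hc
    show c • g ((toFrame W).b x) = a • k ((toFrame W).b x)
    rw [ha', hc', smul_comm]
  have he : ∀ i, g (k (W.e i)) = k (g (W.e i)) := fun i => hb (i, true)
  have hf : ∀ i, g (k (W.f i)) = k (g (W.f i)) := fun i => hb (i, false)
  obtain ⟨a, b, w, hw, rfl⟩ := W.span v
  simp only [map_add, map_sum, map_smul, he, hf, h0 w hw]

end Cfsg.Agent.H395.PQ.OrthField
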